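import Groth.Prelude.Def_Wider
import Groth.Agent.Lib.InjMod.MatlisCompl
import Groth.Agent.Lib.InjMod.Essential
import Groth.Agent.Lib.AdicExtra.Completion
import Mathlib.RingTheory.Localization.AtPrime.Basic
import Mathlib.Logic.Small.Basic

/-! The theorem of Hartshorne, Speiser and Lyubeznik. -/

set_option autoImplicit false
set_option linter.style.haveILetI false
universe u v

namespace GrothLib.HSL24

open GrothLib.Matlis

section Loc

variable {R : Type u} [CommRing R] [IsNoetherianRing R] {L : Type u} [AddCommGroup L] [Module R L]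
  [Module.Finite R L]

/-- A descending chain becomes stationary at a minimal prime of the annihilator. -/
theorem exists_smul_mem_succ (P : Ideal R) [P.IsPrime] (hP : P ∈ (Module.annihilator R L).minimalPrimes)
    (N : ℕ → Submodule R L) (hN : Antitone N) :
    ∃ e, ∃ c ∉ P, ∀ x ∈ N e, c • x ∈ N (e + 1) := by
  classical
  set I := Module.annihilator R L with hI
  set Rp := Localization.AtPrime P
  set IA := I.map (algebraMap R Rp)
  set Lp := LocalizedModule P.primeCompl L
  haveI : Ring.KrullDimLE 0 (Rp ⧸ IA) := Ring.KrullDimLE.mk₀ fun Q hQ => by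
    have hle : IA ≤ Q.comap (Ideal.Quotient.mk IA) := fun x hx => by
      rw [Ideal.mem_comap, Ideal.Quotient.eq_zero_iff_mem.2 hx]; exact zero_mem _
    have hr := ((hQ.comap (Ideal.Quotient.mk IA)).radical_le_iff).2 hle
    rw [IsLocalization.AtPrime.radical_map_of_mem_minimalPrimes (A := Rp) P I hP,
      Localization.AtPrime.map_eq_maximalIdeal] at hr
    have he : IsLocalRing.maximalIdeal Rp = Q.comap (Ideal.Quotient.mk IA) :=
      (IsLocalRing.maximalIdeal.isMaximal Rp).eq_of_le (hQ.comap _).ne_top hr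
    haveI : (Q.comap (Ideal.Quotient.mk IA)).IsMaximal := he ▸ IsLocalRing.maximalIdeal.isMaximal Rp
    have h2 := Ideal.map_eq_top_or_isMaximal_of_surjective (Ideal.Quotient.mk IA)
      Ideal.Quotient.mk_surjective (I := Q.comap (Ideal.Quotient.mk IA)) inferInstance
    rw [Ideal.map_comap_of_surjective _ Ideal.Quotient.mk_surjective] at h2
    exact h2.resolve_left hQ.ne_top
  haveI : IsArtinianRing (Rp ⧸ IA) :=
    isArtinianRing_iff_isNoetherianRing_krullDimLE_zero.2 ⟨inferInstance, inferInstance⟩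
  haveI : IsArtinian Rp (Rp ⧸ IA) :=
    isArtinian_of_surjective_algebraMap (R := Rp ⧸ IA) (M := Rp ⧸ IA) (Ideal.Quotient.mk_surjective (I := IA))
  haveI : IsArtinian Rp Lp := by
    have hkill : ∀ x : Lp, IA ≤ LinearMap.ker (LinearMap.toSpanSingleton Rp Lp x) := by
      intro x
      refine Ideal.map_le_iff_le_comap.2 fun a ha => ?_
      show algebraMap R Rp a • x = 0
      induction x using LocalizedModule.induction_on with
      | _ m s =>
        rw [algebraMap_smul, LocalizedModule.smul'_mk, Module.mem_annihilator.1 ha m, LocalizedModule.zero_mk]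
    haveI : Module.Finite Rp Lp :=
      Module.Finite.of_isLocalizedModule P.primeCompl (LocalizedModule.mkLinearMap P.primeCompl L)
    obtain ⟨n, s, hs⟩ := Module.Finite.exists_fin (R := Rp) (M := Lp)
    let g : (Fin n → Rp ⧸ IA) →ₗ[Rp] Lp :=
      ∑ i, (Submodule.liftQ IA (LinearMap.toSpanSingleton Rp Lp (s i)) (hkill _)) ∘ₗ LinearMap.proj i
    refine isArtinian_of_surjective (Fin n → Rp ⧸ IA) g (LinearMap.range_eq_top.1 (top_le_iff.1 ?_))
    rw [← hs, Submodule.span_le]
    rintro _ ⟨i, rfl⟩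
    refine ⟨Pi.single i (Submodule.Quotient.mk 1), ?_⟩
    rw [LinearMap.sum_apply, Finset.sum_eq_single i (fun j _ hj => by simp [hj]) (fun h => absurd (Finset.mem_univ i) h)]
    rw [LinearMap.comp_apply, LinearMap.proj_apply, Pi.single_eq_same, Submodule.liftQ_apply,
      LinearMap.toSpanSingleton_apply, one_smul]
  obtain ⟨e, he⟩ := IsArtinian.monotone_stabilizes (R := Rp) (M := Lp)
    ⟨fun n => OrderDual.toDual ((N n).localized P.primeCompl), fun a b hab =>
      OrderDual.toDual_le_toDual.2 fun x hx => by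
        obtain ⟨m, hm, s, rfl⟩ := hx
        exact ⟨m, hN hab hm, s, rfl⟩⟩
  have heq : (N e).localized P.primeCompl = (N (e + 1)).localized P.primeCompl :=
    OrderDual.toDual.injective (he (e + 1) (Nat.le_succ e))
  have hc : ∀ x ∈ N e, ∃ c : P.primeCompl, (c : R) • x ∈ N (e + 1) := by
    intro x hx
    have h1 : LocalizedModule.mk x 1 ∈ (N e).localized P.primeCompl :=
      ⟨x, hx, 1, IsLocalizedModule.mk_eq_mk' (1 : P.primeCompl) x ▸ rfl⟩
    rw [heq] at h1
    obtain ⟨m, hm, s, hms⟩ := h1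
    rw [← IsLocalizedModule.mk_eq_mk', LocalizedModule.mk_eq] at hms
    obtain ⟨c, hc⟩ := hms
    refine ⟨c * s, ?_⟩
    simp only [one_smul, smul_smul] at hc
    rw [show (((c * s : P.primeCompl) : R)) • x = (c * s) • x from rfl, ← hc]
    exact (N (e + 1)).smul_mem (c : R) hm
  haveI : IsNoetherian R L := isNoetherian_of_isNoetherianRing_of_finite R L
  obtain ⟨T, hT⟩ := IsNoetherian.noetherian (N e)
  choose c hc using fun x : T => hc x (by
    have : (x : L) ∈ Submodule.span R (T : Set L) := Submodule.subset_span x.2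
    exact hT ▸ this)
  refine ⟨e, ((∏ x, c x : P.primeCompl) : R), (∏ x, c x : P.primeCompl).2, fun x hx => ?_⟩
  have hle : N e ≤ (N (e + 1)).comap (LinearMap.lsmul R L ((∏ x, c x : P.primeCompl) : R)) := by
    rw [← hT, Submodule.span_le]
    intro y hy
    show ((∏ x, c x : P.primeCompl) : R) • y ∈ N (e + 1)
    rw [← Finset.prod_erase_mul _ _ (Finset.mem_univ ⟨y, hy⟩), Submonoid.coe_mul, mul_smul]
    exact Submodule.smul_mem _ _ (hc ⟨y, hy⟩)
  exact hle hx

end Loc

section Complete

variable {R : Type u} [CommRing R] [IsNoetherianRing R] [IsLocalRing R]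

theorem exists_embedding_hull {E : Type u} [AddCommGroup E] [Module R E]
    {f : IsLocalRing.ResidueField R →ₗ[R] E} (hf : InjHull.IsInjectiveHull f)
    (M : Type u) [AddCommGroup M] [Module R M]
    (htors : LocCoh.IsPowerTorsion (IsLocalRing.maximalIdeal R) M)
    (hsoc : Module.Finite R ↥(LocCoh.torsionBy (IsLocalRing.maximalIdeal R) M)) :
    ∃ (n : ℕ) (g : M →ₗ[R] (Fin n → E)), Function.Injective g := by
  set S := LocCoh.torsionBy (IsLocalRing.maximalIdeal R) M
  haveI := hsoc
  have hSfl : IsFiniteLength R S := by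
    haveI : IsArtinian R S := (LC.finite_iff_isArtinian_of_pow_smul (IsLocalRing.maximalIdeal R) (N := 1)
      fun a ha z => Subtype.ext ((Submodule.mem_torsionBySet_iff _ _).1 z.2 ⟨a, pow_one (IsLocalRing.maximalIdeal R) ▸ ha⟩)).1 hsoc
    exact isFiniteLength_iff_isNoetherian_isArtinian.2 ⟨isNoetherian_of_isNoetherianRing_of_finite R S, inferInstance⟩
  haveI : IsNoetherian R (S →ₗ[R] E) := by
    refine (isFiniteLength_iff_isNoetherian_isArtinian.1 (Module.length_ne_top_iff.1 ?_)).1
    rw [length_linearMap hf hSfl]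
    exact Module.length_ne_top_iff.2 hSfl
  obtain ⟨n, ψ, hψ⟩ := Module.Finite.exists_fin (R := R) (M := S →ₗ[R] E)
  choose φ hφ using fun i => hf.isInjective.out S.subtype S.injective_subtype (ψ i)
  refine ⟨n, LinearMap.pi φ, injective_of_socle htors _ fun x hx h0 => ?_⟩
  by_contra hx0
  obtain ⟨χ, hχ⟩ := exists_apply_ne_zero hf (x := (⟨x, hx⟩ : S)) (fun h => hx0 (congrArg Subtype.val h))
  refine hχ ?_
  have : ∀ χ : S →ₗ[R] E, χ ∈ Submodule.span R (Set.range ψ) → χ ⟨x, hx⟩ = 0 := by
    intro χ hχ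
    induction hχ using Submodule.span_induction with
    | mem y hy => obtain ⟨i, rfl⟩ := hy; rw [← hφ i]; exact congrFun h0 i
    | zero => rfl
    | add a b _ _ ha hb => simp [ha, hb]
    | smul a b _ hb => simp [hb]
  exact this χ (hψ ▸ Submodule.mem_top)

theorem nilpotent_complete [IsAdicComplete (IsLocalRing.maximalIdeal R) R] (p : ℕ) (hp : 2 ≤ p)
    (M : Type u) [AddCommGroup M] [Module R M]
    (htors : LocCoh.IsPowerTorsion (IsLocalRing.maximalIdeal R) M)
    (hsoc : Module.Finite R ↥(LocCoh.torsionBy (IsLocalRing.maximalIdeal R) M))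
    (φ : M →+ M) (hsl : ∀ (a : R) (x : M), φ (a • x) = a ^ p • φ x)
    (hloc : ∀ x : M, ∃ n : ℕ, (⇑φ)^[n] x = 0) : ∃ n : ℕ, ∀ x : M, (⇑φ)^[n] x = 0 := by
  have hiter : ∀ (n : ℕ) (a : R) (x : M), (⇑φ)^[n] (a • x) = a ^ (p ^ n) • (⇑φ)^[n] x := by
    intro n
    induction n with
    | zero => intro a x; simp
    | succ n ih => intro a x; rw [Function.iterate_succ_apply, hsl, ih, ← pow_mul, ← pow_succ', Function.iterate_succ_apply]
  let K : ℕ → Submodule R M := fun n =>
    { carrier := {x | (⇑φ)^[n] x = 0}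
      add_mem' := fun {a b} (ha : (⇑φ)^[n] a = 0) (hb : (⇑φ)^[n] b = 0) => by
        show (⇑φ)^[n] (a + b) = 0
        rw [iterate_map_add, ha, hb, add_zero]
      zero_mem' := iterate_map_zero φ n
      smul_mem' := fun a x (hx : (⇑φ)^[n] x = 0) => by
        show (⇑φ)^[n] (a • x) = 0
        rw [hiter, hx, smul_zero] }
  have hK : Monotone K := monotone_nat_of_le_succ fun n x (hx : (⇑φ)^[n] x = 0) => by
    show (⇑φ)^[n + 1] x = 0
    rw [Function.iterate_succ_apply', hx, map_zero]
  have hKφ : ∀ (n : ℕ) (x : M), φ x ∈ K n ↔ x ∈ K (n + 1) := fun n x => by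
    show (⇑φ)^[n] (φ x) = 0 ↔ (⇑φ)^[n + 1] x = 0
    rw [Function.iterate_succ_apply]
  let J : ℕ → Ideal R := fun e =>
    { carrier := {a | ∀ x ∈ K (e + 1), a • x ∈ K e}
      add_mem' := fun {a b} ha hb x hx => by rw [add_smul]; exact add_mem (ha x hx) (hb x hx)
      zero_mem' := fun x _ => by rw [zero_smul]; exact zero_mem _
      smul_mem' := fun r a ha x hx => by rw [smul_eq_mul, mul_smul]; exact Submodule.smul_mem _ r (ha x hx) }
  have hJ : Monotone J := monotone_nat_of_le_succ fun e a (ha : ∀ x ∈ K (e + 1), a • x ∈ K e) x hx => by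
    rw [← hKφ, hsl]
    have : a ^ p • φ x = a ^ (p - 1) • (a • φ x) := by
      rw [smul_smul, ← pow_succ]; congr 2; omega
    rw [this]
    exact Submodule.smul_mem _ _ (ha _ ((hKφ _ _).2 hx))
  obtain ⟨e₀, he₀⟩ := monotone_stabilizes_iff_noetherian.2 ‹IsNoetherianRing R› ⟨J, hJ⟩
  have hstab : ∀ e, e₀ ≤ e → J e₀ = J e := fun e he => he₀ e he
  -- multiplication by the square of an element of the stable ideal
  have hsq : ∀ a ∈ J e₀, ∀ (j : ℕ) (x : M), x ∈ K (e₀ + j) → (a * a) • x ∈ K e₀ := by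
    intro a ha j
    induction j with
    | zero => intro x hx; exact Submodule.smul_mem _ _ hx
    | succ j ih =>
      intro x hx
      have h1 : a • x ∈ K (e₀ + j) := (hstab (e₀ + j) (Nat.le_add_right _ _) ▸ ha : a ∈ J (e₀ + j)) x hx
      have h2 : φ x ∈ K (e₀ + j) := (hKφ _ _).2 hx
      have h3 : a • x ∈ K (e₀ + 1) := by
        rw [← hKφ, hsl]
        have : a ^ p • φ x = a ^ (p - 2) • ((a * a) • φ x) := by
          rw [smul_smul, ← sq, ← pow_add]; congr 2; omega
        rw [this]
        exact Submodule.smul_mem _ _ (ih _ h2)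
      rw [mul_smul]
      exact ha _ h3
  have hmem : ∀ x : M, ∃ j, x ∈ K (e₀ + j) := fun x => by
    obtain ⟨n, hn⟩ := hloc x
    exact ⟨n, hK (Nat.le_add_left n e₀) hn⟩
  -- duality
  obtain ⟨E, _, _, f, hf⟩ := GrothLib.InjMod.exists_injective_hull (R := R) (IsLocalRing.ResidueField R)
  obtain ⟨n, g, hg⟩ := exists_embedding_hull hf M htors hsoc
  haveI := (duality_artinian hf g hg).1
  haveI : IsNoetherian R (M →ₗ[R] E) := isNoetherian_of_isNoetherianRing_of_finite R _
  let W : Submodule R (M →ₗ[R] E) := LinearMap.ker (LinearMap.lcomp R E (K e₀).subtype)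
  have hperp : ∀ (i : ℕ) (x : M), x ∉ K i → ∃ ψ : M →ₗ[R] E, (∀ y ∈ K i, ψ y = 0) ∧ ψ x ≠ 0 := by
    intro i x hx
    obtain ⟨ψ, hψ⟩ := exists_apply_ne_zero hf (x := (Submodule.Quotient.mk x : M ⧸ K i))
      (fun h => hx ((Submodule.Quotient.mk_eq_zero _).1 h))
    exact ⟨ψ ∘ₗ (K i).mkQ, fun y hy => by simp [(Submodule.Quotient.mk_eq_zero _).2 hy], hψ⟩
  have hWmem : ∀ ψ : M →ₗ[R] E, ψ ∈ W ↔ ∀ y ∈ K e₀, ψ y = 0 := fun ψ => by
    rw [LinearMap.mem_ker]
    exact ⟨fun h y hy => LinearMap.congr_fun h ⟨y, hy⟩, fun h => LinearMap.ext fun y => h y y.2⟩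
  by_cases htop : Module.annihilator R W = ⊤
  · refine ⟨e₀, fun x => ?_⟩
    by_contra hx
    obtain ⟨ψ, hψ, hψx⟩ := hperp e₀ x hx
    have h1 := Module.mem_annihilator.1 ((Ideal.eq_top_iff_one _).1 htop) ⟨ψ, (hWmem ψ).2 hψ⟩
    rw [one_smul] at h1
    exact hψx (LinearMap.congr_fun (congrArg Subtype.val h1) x)
  · exfalso
    obtain ⟨P, hP⟩ := Ideal.nonempty_minimalPrimes htop
    haveI := hP.1.1
    have hJP : J e₀ ≤ P := fun a ha => by
      refine (hP.1.1.mem_or_mem (hP.1.2 (Module.mem_annihilator.2 fun ψ => Subtype.ext ?_))).elim id id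
      refine LinearMap.ext fun x => ?_
      obtain ⟨j, hj⟩ := hmem x
      show (a * a) • (ψ : M →ₗ[R] E) x = 0
      rw [← map_smul]
      exact (hWmem _).1 ψ.2 _ (hsq a ha j x hj)
    let N : ℕ → Submodule R W := fun i =>
      LinearMap.ker ((LinearMap.lcomp R E (K (e₀ + i)).subtype) ∘ₗ W.subtype)
    have hNmem : ∀ (i : ℕ) (ψ : W), ψ ∈ N i ↔ ∀ y ∈ K (e₀ + i), (ψ : M →ₗ[R] E) y = 0 := fun i ψ => by
      rw [LinearMap.mem_ker]
      exact ⟨fun h y hy => LinearMap.congr_fun h ⟨y, hy⟩, fun h => LinearMap.ext fun y => h y y.2⟩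
    obtain ⟨i, c, hcP, hc⟩ := exists_smul_mem_succ P hP N fun a b hab ψ hψ =>
      (hNmem a ψ).2 fun y hy => (hNmem b ψ).1 hψ y (hK (Nat.add_le_add_left hab e₀) hy)
    refine hcP (hJP ?_)
    rw [hstab (e₀ + i) (Nat.le_add_right _ _)]
    intro x hx
    by_contra hcx
    obtain ⟨ψ, hψ, hψx⟩ := hperp (e₀ + i) (c • x) hcx
    have hψW : ψ ∈ W := (hWmem ψ).2 fun y hy => hψ y (hK (Nat.le_add_right e₀ i) hy)
    have h1 := (hNmem (i + 1) _).1 (hc ⟨ψ, hψW⟩ ((hNmem i _).2 hψ)) x hx
    exact hψx (by rw [map_smul]; exact h1)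

end Complete

section General

variable {A : Type u} [CommRing A] [IsNoetherianRing A] [IsLocalRing A]

theorem nilpotent_small (p : ℕ) (hp : 2 ≤ p) (M : Type u) [AddCommGroup M] [Module A M]
    (htors : LocCoh.IsPowerTorsion (IsLocalRing.maximalIdeal A) M)
    (hsoc : Module.Finite A ↥(LocCoh.torsionBy (IsLocalRing.maximalIdeal A) M))
    (φ : M →+ M) (hsl : ∀ (a : A) (x : M), φ (a • x) = a ^ p • φ x)
    (hloc : ∀ x : M, ∃ n : ℕ, (⇑φ)^[n] x = 0) : ∃ n : ℕ, ∀ x : M, (⇑φ)^[n] x = 0 := by
  set B := AdicCompletion (IsLocalRing.maximalIdeal A) A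
  letI : Module B M := Module.compHom M (complAct htors).toRingHom
  haveI : IsScalarTower A B M := ⟨fun a b x => by
    show complAct htors (a • b) x = a • complAct htors b x
    rw [map_smul, LinearMap.smul_apply]⟩
  haveI : IsAdicComplete (IsLocalRing.maximalIdeal B) B := by
    rw [AdicCompletion.maximalIdeal_eq_map]
    exact AdicCompletion.isAdicComplete_self _ (IsLocalRing.maximalIdeal A).fg_of_isNoetherianRing
  have hm : ∀ a ∈ IsLocalRing.maximalIdeal A, algebraMap A B a ∈ IsLocalRing.maximalIdeal B := fun a ha => by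
    rw [AdicCompletion.maximalIdeal_eq_map]; exact Ideal.mem_map_of_mem _ ha
  refine nilpotent_complete (R := B) p hp M (fun x => ?_) ?_ φ ?_ hloc
  · obtain ⟨N, hN⟩ := htors x
    refine ⟨N, fun b hb => ?_⟩
    have hle : IsLocalRing.maximalIdeal B ^ N ≤ LinearMap.ker (LinearMap.toSpanSingleton B M x) := by
      rw [AdicCompletion.maximalIdeal_eq_map, ← Ideal.map_pow, Ideal.map_le_iff_le_comap]
      intro a ha
      show algebraMap A B a • x = 0
      rw [algebraMap_smul]
      exact hN a ha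
    exact hle hb
  · haveI := hsoc
    let j : ↥((LocCoh.torsionBy (IsLocalRing.maximalIdeal B) M).restrictScalars A) →ₗ[A]
        ↥(LocCoh.torsionBy (IsLocalRing.maximalIdeal A) M) :=
      LinearMap.codRestrict _ (Submodule.subtype _) fun x => (Submodule.mem_torsionBySet_iff _ _).2 fun a => by
        have := (Submodule.mem_torsionBySet_iff _ _).1 x.2 ⟨algebraMap A B a, hm a a.2⟩
        simpa [algebraMap_smul] using this
    haveI : Module.Finite A ↥((LocCoh.torsionBy (IsLocalRing.maximalIdeal B) M).restrictScalars A) :=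
      Module.Finite.of_injective j fun x y h => Subtype.ext (congrArg Subtype.val h :)
    haveI : Module.Finite A ↥(LocCoh.torsionBy (IsLocalRing.maximalIdeal B) M) :=
      Module.Finite.equiv (Submodule.restrictScalarsEquiv A B M (LocCoh.torsionBy (IsLocalRing.maximalIdeal B) M) |>.restrictScalars A)
    exact Module.Finite.of_restrictScalars_finite A B ↥(LocCoh.torsionBy (IsLocalRing.maximalIdeal B) M)
  · intro b x
    obtain ⟨s, rfl⟩ := AdicCompletion.mk_surjective (IsLocalRing.maximalIdeal A) A b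
    obtain ⟨N₁, h₁⟩ := htors x
    obtain ⟨N₂, h₂⟩ := htors (φ x)
    have hx : ∀ a ∈ IsLocalRing.maximalIdeal A ^ (max N₁ N₂), a • x = 0 := fun a ha =>
      h₁ a (Ideal.pow_le_pow_right (le_max_left _ _) ha)
    have hφx : ∀ a ∈ IsLocalRing.maximalIdeal A ^ (max N₁ N₂), a • φ x = 0 := fun a ha =>
      h₂ a (Ideal.pow_le_pow_right (le_max_right _ _) ha)
    show φ (complAct htors _ x) = complAct htors (_ ^ p) (φ x)
    rw [complAct_mk htors s hx, hsl, map_pow]
    have key : ∀ k : ℕ, ((complAct htors (AdicCompletion.mk _ A s)) ^ k) (φ x) = (s.val (max N₁ N₂)) ^ k • φ x := by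
      intro k
      induction k with
      | zero => simp
      | succ k ih =>
        rw [pow_succ', Module.End.mul_apply, ih, map_smul, complAct_mk htors s hφx, smul_smul, pow_succ]
    exact (key p).symm

theorem small_of_cofinite {M : Type v} [AddCommGroup M] [Module A M]
    (htors : LocCoh.IsPowerTorsion (IsLocalRing.maximalIdeal A) M)
    (hsoc : Module.Finite A ↥(LocCoh.torsionBy (IsLocalRing.maximalIdeal A) M)) : Small.{u} M := by
  classical
  set 𝔪 := IsLocalRing.maximalIdeal A
  have hfin : ∀ n : ℕ, Module.Finite A ↥(LocCoh.torsionBy (𝔪 ^ n) M) := by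
    intro n
    induction n with
    | zero =>
      haveI : Subsingleton ↥(LocCoh.torsionBy (𝔪 ^ 0) M) := ⟨fun x y => Subtype.ext (by
        have hz : ∀ z : ↥(LocCoh.torsionBy (𝔪 ^ 0) M), (z : M) = 0 := fun z => by
          simpa using (Submodule.mem_torsionBySet_iff _ _).1 z.2 ⟨1, by simp⟩
        rw [hz x, hz y])⟩
      infer_instance
    | succ n ih =>
      obtain ⟨k, s, hs⟩ := Submodule.fg_iff_exists_fin_generating_family.1 (𝔪.fg_of_isNoetherianRing)
      haveI := ih
      let g : ↥(LocCoh.torsionBy (𝔪 ^ (n + 1)) M) →ₗ[A] (Fin k → ↥(LocCoh.torsionBy (𝔪 ^ n) M)) :=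
        LinearMap.pi fun i => LinearMap.codRestrict _ ((LinearMap.lsmul A M (s i)) ∘ₗ Submodule.subtype _)
          fun x => (Submodule.mem_torsionBySet_iff _ _).2 fun a => by
            show (a : A) • s i • (x : M) = 0
            rw [smul_smul]
            refine (Submodule.mem_torsionBySet_iff _ _).1 x.2 ⟨(a : A) * s i, ?_⟩
            rw [SetLike.mem_coe, pow_succ]
            exact Ideal.mul_mem_mul a.2 (hs ▸ Submodule.subset_span ⟨i, rfl⟩)
      haveI : IsNoetherian A (Fin k → ↥(LocCoh.torsionBy (𝔪 ^ n) M)) := isNoetherian_of_isNoetherianRing_of_finite A _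
      haveI : IsNoetherian A ↥(LinearMap.ker g) := by
        haveI := hsoc
        haveI : IsNoetherian A ↥(LocCoh.torsionBy 𝔪 M) := isNoetherian_of_isNoetherianRing_of_finite A _
        refine isNoetherian_of_injective (LinearMap.codRestrict (LocCoh.torsionBy 𝔪 M)
          (Submodule.subtype _ ∘ₗ Submodule.subtype _) fun x => (Submodule.mem_torsionBySet_iff _ _).2 fun a => ?_) ?_
        · have hle : 𝔪 ≤ LinearMap.ker (LinearMap.toSpanSingleton A M ((x : ↥(LocCoh.torsionBy (𝔪 ^ (n + 1)) M)) : M)) := by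
            refine hs.ge.trans (Submodule.span_le.2 ?_)
            rintro _ ⟨i, rfl⟩
            exact congrArg Subtype.val (congrFun (LinearMap.mem_ker.1 x.2) i)
          exact hle a.2
        · exact fun x y h => Subtype.ext (Subtype.ext (congrArg Subtype.val h :))
      haveI : IsNoetherian A ↥(LinearMap.range g) := isNoetherian_of_injective _ (Submodule.injective_subtype _)
      haveI : IsNoetherian A ↥(LocCoh.torsionBy (𝔪 ^ (n + 1)) M) :=
        isNoetherian_of_range_eq_ker (LinearMap.ker g).subtype g.rangeRestrict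
          (by rw [Submodule.range_subtype, LinearMap.ker_rangeRestrict])
      infer_instance
  choose k g hg using fun n => by haveI := hfin n; exact Module.Finite.exists_fin' A ↥(LocCoh.torsionBy (𝔪 ^ n) M)
  refine small_of_surjective (α := Σ n, (Fin (k n) → A)) (f := fun z => ((g z.1 z.2 : _) : M)) fun x => ?_
  obtain ⟨n, hn⟩ := htors x
  obtain ⟨v, hv⟩ := hg n ⟨x, (Submodule.mem_torsionBySet_iff _ _).2 fun a => hn a a.2⟩
  exact ⟨⟨n, v⟩, congrArg Subtype.val hv⟩

theorem nilpotent (p : ℕ) (hp : 2 ≤ p) (M : Type v) [AddCommGroup M] [Module A M]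
    (htors : LocCoh.IsPowerTorsion (IsLocalRing.maximalIdeal A) M)
    (hsoc : Module.Finite A ↥(LocCoh.torsionBy (IsLocalRing.maximalIdeal A) M))
    (φ : M →+ M) (hsl : ∀ (a : A) (x : M), φ (a • x) = a ^ p • φ x)
    (hloc : ∀ x : M, ∃ n : ℕ, (⇑φ)^[n] x = 0) : ∃ n : ℕ, ∀ x : M, (⇑φ)^[n] x = 0 := by
  haveI := small_of_cofinite htors hsoc
  let e : Shrink.{u} M ≃ₗ[A] M := Shrink.linearEquiv.{u} A M
  let φ' : Shrink.{u} M →+ Shrink.{u} M :=
    e.symm.toLinearMap.toAddMonoidHom.comp (φ.comp e.toLinearMap.toAddMonoidHom)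
  have hit : ∀ (n : ℕ) (x : Shrink.{u} M), e ((⇑φ')^[n] x) = (⇑φ)^[n] (e x) := by
    intro n
    induction n with
    | zero => intro x; rfl
    | succ n ih =>
      intro x
      rw [Function.iterate_succ_apply, ih, Function.iterate_succ_apply]
      exact congrArg _ (e.apply_symm_apply _)
  obtain ⟨n, hn⟩ := nilpotent_small p hp (Shrink.{u} M)
    (fun x => by
      obtain ⟨N, hN⟩ := htors (e x)
      exact ⟨N, fun a ha => e.injective (by rw [map_smul, map_zero]; exact hN a ha)⟩)
    (by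
      haveI := hsoc
      refine Module.Finite.of_injective (LinearMap.codRestrict (LocCoh.torsionBy (IsLocalRing.maximalIdeal A) M)
        (e.toLinearMap ∘ₗ Submodule.subtype _) fun x => (Submodule.mem_torsionBySet_iff _ _).2 fun a => ?_)
        fun x y h => Subtype.ext (e.injective (congrArg Subtype.val h :))
      show (a : A) • e (x : Shrink.{u} M) = 0
      rw [← map_smul, (Submodule.mem_torsionBySet_iff _ _).1 x.2 a, map_zero])
    φ' (fun a x => e.injective (by
      show e (e.symm (φ (e (a • x)))) = e (a ^ p • e.symm (φ (e x)))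
      rw [e.apply_symm_apply, map_smul, hsl, map_smul, e.apply_symm_apply]))
    fun x => by
      obtain ⟨n, hn⟩ := hloc (e x)
      exact ⟨n, e.injective (by rw [hit, hn, map_zero])⟩
  refine ⟨n, fun x => ?_⟩
  rw [← e.apply_symm_apply x, ← hit, hn, map_zero]

end General

end GrothLib.HSL24
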